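import Mathlib
import Groth.Prelude.Def_CycDet
import Groth.Prelude.Def_Tame
import Groth.Agent.H46.CycDet
import Groth.Agent.H46.CycDetNZ
import Groth.Agent.H46.CycDetSES
import Groth.Agent.H46.LatDist

/-!
Definitions for S1853 (length of the cokernel = order of the ratio of determinant symbols).

* `GoodR q y`: the tuple `y` in an `R`-module has all successive quotients
  `⟨y_0..y_i⟩/⟨y_0..y_{i-1}⟩` isomorphic to `R/q` (expressed through annihilators).
* `scaleFrom k a y`: multiply the entries at positions `≥ k` by `a`.
* `quotT z K`: drop the first entry and project to the quotient by `K`.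
-/

set_option autoImplicit false
universe u v

namespace Groth.Agent.H58.CDL

open CycDet

section Defs
variable {R : Type u} [CommRing R] [IsLocalRing R] {N : Type v} [AddCommGroup N] [Module R N]

/-- `y` is good for `q`: the annihilator of `y i` modulo the span of the earlier entries is `q`. -/
def GoodR (q : Ideal R) {l : ℕ} (y : Fin l → N) : Prop :=
  ∀ (i : Fin l) (r : R), r • y i ∈ spanBefore R N y i ↔ r ∈ q

/-- Scale the entries at positions `≥ k` by `a`. -/
def scaleFrom {l : ℕ} (k : ℕ) (a : R) (y : Fin l → N) : Fin l → N :=
  fun j => if k ≤ (j : ℕ) then a • y j else y j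

/-- The lattice spanned by a tuple. -/
abbrev lat {l : ℕ} (y : Fin l → N) : Submodule R N := Submodule.span R (Set.range y)

end Defs

section Quot
variable {S : Type u} [CommRing S] {V : Type v} [AddCommGroup V] [Module S V]

/-- Drop the first entry and project to the quotient by `K`. -/
def quotT {l : ℕ} (z : Fin (l + 1) → V) (K : Submodule S V) : Fin l → V ⧸ K :=
  fun j => K.mkQ (z j.succ)

end Quot

end Groth.Agent.H58.CDL
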