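import Groth.Agent.H58.CDL.Main
import Groth.Agent.S1852

/-!
Reduction of S1853 to the main theorem `main_all` inside `V = N_q`.
-/

set_option autoImplicit false
set_option linter.unusedSectionVars false
universe u v

namespace Groth.Agent.H58.CDL

open CycDet IsLocalRing Groth.Agent.H46.CD Groth.Agent.H46.LatDist

section Final
variable {R : Type u} [CommRing R] [IsLocalRing R] {N : Type u} [AddCommGroup N] [Module R N]

theorem goodR_of_equiv (q : Ideal R) {l : ℕ} (x : Fin l → N)
    (h : ∀ i : Fin l, Nonempty ((↥(CycDet.spanBefore R N x (i + 1)) ⧸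
      (CycDet.spanBefore R N x i).submoduleOf (CycDet.spanBefore R N x (i + 1))) ≃ₗ[R]
        (R ⧸ q))) : GoodR q x := by
  intro i r
  obtain ⟨e⟩ := h i
  have hi1 : x i ∈ spanBefore R N x (i + 1) := mem_spanBefore x i (Nat.lt_succ_self _)
  have hsm1 : ∀ t : R, t • (1 : R ⧸ q) = Ideal.Quotient.mk q t := by
    intro t
    rw [Algebra.smul_def, mul_one]; rfl
  have hξ : ∀ t : R, t • (Submodule.Quotient.mk (⟨x i, hi1⟩ : ↥(spanBefore R N x (i + 1))) :
      ↥(spanBefore R N x (i + 1)) ⧸
        (spanBefore R N x i).submoduleOf (spanBefore R N x (i + 1))) = 0 ↔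
      t • x i ∈ spanBefore R N x i := by
    intro t
    rw [← Submodule.Quotient.mk_smul, Submodule.Quotient.mk_eq_zero]
    rfl
  constructor
  · intro hr
    have hall : ∀ z : ↥(spanBefore R N x (i + 1)) ⧸
        (spanBefore R N x i).submoduleOf (spanBefore R N x (i + 1)), r • z = 0 := by
      intro z
      obtain ⟨⟨w, hw⟩, rfl⟩ := Submodule.Quotient.mk_surjective _ z
      have hw' : w ∈ spanBefore R N x i ⊔ Submodule.span R {x i} := by
        rw [← spanBefore_succ]; exact hw
      obtain ⟨w₁, hw₁, w₂, hw₂, hww⟩ := Submodule.mem_sup.1 hw'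
      obtain ⟨c, hc⟩ := Submodule.mem_span_singleton.1 hw₂
      rw [← Submodule.Quotient.mk_smul, Submodule.Quotient.mk_eq_zero]
      show r • w ∈ spanBefore R N x i
      rw [← hww, ← hc, smul_add, smul_comm]
      exact Submodule.add_mem _ (Submodule.smul_mem _ r hw₁) (Submodule.smul_mem _ c hr)
    have h1 := hall (e.symm 1)
    have h2 : r • (1 : R ⧸ q) = 0 := by
      have := congrArg e h1
      rwa [map_smul, e.apply_symm_apply, map_zero] at this
    rw [hsm1] at h2
    exact Ideal.Quotient.eq_zero_iff_mem.1 h2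
  · intro hr
    rw [← hξ]
    apply e.injective
    rw [map_smul, map_zero]
    obtain ⟨t, ht⟩ := Ideal.Quotient.mk_surjective (e (Submodule.Quotient.mk ⟨x i, hi1⟩))
    rw [← ht]
    show Ideal.Quotient.mk q (r * t) = 0
    exact Ideal.Quotient.eq_zero_iff_mem.2 (q.mul_mem_right t hr)

theorem GoodR.torsionFree {q : Ideal R} [q.IsPrime] {l : ℕ} {y : Fin l → N} (hy : GoodR q y)
    (hspan : Submodule.span R (Set.range y) = ⊤) (s : R) (hs : s ∉ q) (n : N)
    (hsn : s • n = 0) : n = 0 := by
  have h := GoodR.sat hy 0 n (by rw [hspan]; trivial) s hs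
    (by rw [hsn]; exact Submodule.zero_mem _)
  rwa [spanBefore_zero, Submodule.mem_bot] at h

theorem mk_injective (q : Ideal R) [q.IsPrime]
    (htf : ∀ s : R, s ∉ q → ∀ n : N, s • n = 0 → n = 0) :
    Function.Injective (LocalizedModule.mkLinearMap q.primeCompl N) := by
  rw [← LinearMap.ker_eq_bot, LinearMap.ker_eq_bot']
  intro n hn
  rw [LocalizedModule.mkLinearMap_apply, ← LocalizedModule.zero_mk 1, LocalizedModule.mk_eq] at hn
  obtain ⟨u, hu⟩ := hn
  simp only [smul_zero, one_smul] at hu
  exact htf u u.2 n (by rwa [Submonoid.smul_def] at hu)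

theorem GoodR.map {N' : Type*} [AddCommGroup N'] [Module R N'] {q : Ideal R} {l : ℕ}
    {x : Fin l → N} (hx : GoodR q x) (ψ : N →ₗ[R] N') (hψ : Function.Injective ψ) :
    GoodR q (ψ ∘ x) := by
  intro i r
  have hsb : spanBefore R N' (ψ ∘ x) i = (spanBefore R N x i).map ψ := by
    unfold spanBefore
    rw [Submodule.map_span, Set.image_comp]
  rw [hsb, ← hx i r, Function.comp_apply, ← map_smul]
  constructor
  · rintro ⟨w, hw, hwe⟩
    rwa [← hψ hwe]
  · intro h; exact ⟨_, h, rfl⟩

end Final

section Thm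

theorem final (R : Type u) [CommRing R] [IsNoetherianRing R] [IsLocalRing R]
    (q : PrimeSpectrum R) (hq : ringKrullDim (R ⧸ q.asIdeal) = 1) (M N : Type u)
    [AddCommGroup M] [Module R M] [AddCommGroup N] [Module R N] [Module.Finite R M]
    [Module.Finite R N] (φ : M →ₗ[R] N) (l : ℕ) (x : Fin l → M) (y : Fin l → N)
    (hx : Submodule.span R (Set.range x) = ⊤) (hy : Submodule.span R (Set.range y) = ⊤)
    (hxq : ∀ i : Fin l, Nonempty ((↥(CycDet.spanBefore R M x (i + 1)) ⧸
      (CycDet.spanBefore R M x i).submoduleOf (CycDet.spanBefore R M x (i + 1))) ≃ₗ[R]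
        (R ⧸ q.asIdeal)))
    (hyq : ∀ i : Fin l, Nonempty ((↥(CycDet.spanBefore R N y (i + 1)) ⧸
      (CycDet.spanBefore R N y i).submoduleOf (CycDet.spanBefore R N y (i + 1))) ≃ₗ[R]
        (R ⧸ q.asIdeal))) :
    (Function.Injective φ ↔
      Function.Bijective (LocalizedModule.map q.asIdeal.primeCompl φ)) ∧
    (Function.Injective φ → ∀ (hl : (Module.length (Localization.AtPrime q.asIdeal)
        (LocalizedModule q.asIdeal.primeCompl N)).toNat = l)
      (ex ey : CycDet.Adm (Localization.AtPrime q.asIdeal)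
        (LocalizedModule q.asIdeal.primeCompl N)
        (Module.length (Localization.AtPrime q.asIdeal)
          (LocalizedModule q.asIdeal.primeCompl N)).toNat)
      (f : q.asIdeal.ResidueField),
      (ex.1 = fun i => LocalizedModule.mkLinearMap q.asIdeal.primeCompl N
        (φ (x (Fin.cast hl i)))) →
      (ey.1 = fun i => LocalizedModule.mkLinearMap q.asIdeal.primeCompl N
        (y (Fin.cast hl i))) →
      CycDet.symbol (Localization.AtPrime q.asIdeal)
        (LocalizedModule q.asIdeal.primeCompl N) ex =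
        f • CycDet.symbol (Localization.AtPrime q.asIdeal)
          (LocalizedModule q.asIdeal.primeCompl N) ey →
      ∃ n : ℕ, Module.length R (N ⧸ LinearMap.range φ) = n ∧
        (n : ℤ) = CycAlg.ordFrac (R ⧸ q.asIdeal) q.asIdeal.ResidueField f) := by
  have gx : GoodR q.asIdeal x := goodR_of_equiv q.asIdeal x hxq
  have gy : GoodR q.asIdeal y := goodR_of_equiv q.asIdeal y hyq
  have tfM : ∀ s : R, s ∉ q.asIdeal → ∀ n : M, s • n = 0 → n = 0 :=
    fun s hs n h => GoodR.torsionFree gx hx s hs n h
  have tfN : ∀ s : R, s ∉ q.asIdeal → ∀ n : N, s • n = 0 → n = 0 :=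
    fun s hs n h => GoodR.torsionFree gy hy s hs n h
  have injM := mk_injective q.asIdeal tfM
  have injN := mk_injective q.asIdeal tfN
  have hsuppM : q ∉ Module.support R (M ⧸ Submodule.span R (Set.range x)) := by
    rw [hx]
    haveI : Subsingleton (M ⧸ (⊤ : Submodule R M)) := Submodule.Quotient.subsingleton_iff.2 rfl
    rw [Module.support_eq_empty]
    exact Set.notMem_empty _
  have hsuppN : q ∉ Module.support R (N ⧸ Submodule.span R (Set.range y)) := by
    rw [hy]
    haveI : Subsingleton (N ⧸ (⊤ : Submodule R N)) := Submodule.Quotient.subsingleton_iff.2 rfl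
    rw [Module.support_eq_empty]
    exact Set.notMem_empty _
  have lenM := Groth.Agent.S1852.part2 q x hsuppM hxq
  have lenN := Groth.Agent.S1852.part2 q y hsuppN hyq
  refine ⟨?_, ?_⟩
  · constructor
    · intro hφ
      have hinj := LocalizedModule.map_injective q.asIdeal.primeCompl φ hφ
      refine ⟨hinj, ?_⟩
      have hadd := Module.length_eq_add_of_exact (LocalizedModule.map q.asIdeal.primeCompl φ)
        (LinearMap.range (LocalizedModule.map q.asIdeal.primeCompl φ)).mkQ hinj
        (Submodule.mkQ_surjective _) (LinearMap.exact_map_mkQ_range _)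
      rw [← lenM, ← lenN] at hadd
      have hX : Module.length (Localization.AtPrime q.asIdeal)
          (LocalizedModule q.asIdeal.primeCompl N ⧸
            LinearMap.range (LocalizedModule.map q.asIdeal.primeCompl φ)) = 0 := by
        have h2 : (l : ℕ∞) + 0 = (l : ℕ∞) + Module.length (Localization.AtPrime q.asIdeal)
          (LocalizedModule q.asIdeal.primeCompl N ⧸
            LinearMap.range (LocalizedModule.map q.asIdeal.primeCompl φ)) := by
          rw [add_zero]; exact hadd
        exact (ENat.add_right_injective_of_ne_top (ENat.coe_ne_top l) h2).symm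
      rw [Module.length_eq_zero_iff, Submodule.Quotient.subsingleton_iff] at hX
      exact LinearMap.range_eq_top.1 hX
    · intro hb m₁ m₂ h
      apply injM
      apply hb.1
      rw [LocalizedModule.mkLinearMap_apply, LocalizedModule.mkLinearMap_apply,
        LocalizedModule.map_mk, LocalizedModule.map_mk, h]
  · intro hφ hl ex ey f hex hey hsym
    subst hl
    obtain ⟨ι, hι⟩ : ∃ ι : N →ₗ[R] LocalizedModule q.asIdeal.primeCompl N,
        ι = LocalizedModule.mkLinearMap q.asIdeal.primeCompl N := ⟨_, rfl⟩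
    rw [← hι] at hex hey injN
    have gxt : GoodR q.asIdeal ((ι ∘ₗ φ) ∘ x) := GoodR.map gx (ι ∘ₗ φ) (injN.comp hφ)
    have gyt : GoodR q.asIdeal (ι ∘ y) := GoodR.map gy ι injN
    have hex' : ex.1 = (ι ∘ₗ φ) ∘ x := by rw [hex]; rfl
    have hey' : ey.1 = ι ∘ y := by rw [hey]; rfl
    have hax : IsAdmissible (Localization.AtPrime q.asIdeal)
        (LocalizedModule q.asIdeal.primeCompl N) ((ι ∘ₗ φ) ∘ x) := hex' ▸ ex.2
    have hay : IsAdmissible (Localization.AtPrime q.asIdeal)
        (LocalizedModule q.asIdeal.primeCompl N) (ι ∘ y) := hey' ▸ ey.2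
    have hsy : Submodule.span R (Set.range (ι ∘ y)) = (⊤ : Submodule R N).map ι := by
      rw [Set.range_comp, ← Submodule.map_span, hy]
    have hsx : Submodule.span R (Set.range ((ι ∘ₗ φ) ∘ x)) = (LinearMap.range φ).map ι := by
      rw [Set.range_comp, ← Submodule.map_span, hx, Submodule.map_top, LinearMap.range_comp]
    have hle : Submodule.span R (Set.range ((ι ∘ₗ φ) ∘ x)) ≤
        Submodule.span R (Set.range (ι ∘ y)) := by
      rw [hsx, hsy]; exact Submodule.map_mono le_top
    have hf : cls (⟨(ι ∘ₗ φ) ∘ x, hax⟩ : Adm (Localization.AtPrime q.asIdeal)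
        (LocalizedModule q.asIdeal.primeCompl N) _) = f • cls ⟨ι ∘ y, hay⟩ := by
      rw [← cls_congr ex ⟨(ι ∘ₗ φ) ∘ x, hax⟩ hex', ← cls_congr ey ⟨ι ∘ y, hay⟩ hey']
      exact hsym
    obtain ⟨n, hn1, hn2⟩ := main_all q.asIdeal hq _ (LocalizedModule q.asIdeal.primeCompl N)
      lenN.symm ((ι ∘ₗ φ) ∘ x) (ι ∘ y) gxt gyt hle hax hay f hf
    refine ⟨n, ?_, hn2⟩
    rw [← hn1, hsx, hsy, idx_map_injective ι injN, idx_top]

end Thm

end Groth.Agent.H58.CDL
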