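import Groth.Agent.H58.CDL.Defs
import Groth.Agent.H46.LatMain
import Groth.Agent.H75.CDL_P1
import Groth.Agent.H75.CDL_P4
import Groth.Agent.H71.CDL_P5
import Groth.Agent.H71.CDL_P10
import Groth.Agent.H55.CDLSym
import Groth.Agent.H87.CDLScale
import Groth.Agent.H87.CDLSwap
import Groth.Agent.H75.CDL_P7

set_option autoImplicit false
universe u v

namespace Groth.Agent.H58.CDL

open CycDet IsLocalRing Groth.Agent.H46.CD Groth.Agent.H46.LatDist

/-! ## (P1)-(P3): R-level lemmas on good tuples -/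
section RLevel
variable {R : Type u} [CommRing R] [IsLocalRing R] {N : Type v} [AddCommGroup N] [Module R N]
  {q : Ideal R} [q.IsPrime] {l : ℕ}

/-- (P1) saturation -/
theorem GoodR.sat {y : Fin l → N} (hy : GoodR q y) (k : ℕ) (n : N)
    (hn : n ∈ Submodule.span R (Set.range y)) (s : R) (hs : s ∉ q)
    (hsn : s • n ∈ spanBefore R N y k) : n ∈ spanBefore R N y k :=
  Groth.Agent.H75.CDLP1.sat hy k n hn s hs hsn

/-- (P2a) -/
theorem spanBefore_scaleFrom_of_le (y : Fin l → N) (k : ℕ) (a : R) {i : ℕ} (hi : i ≤ k) :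
    spanBefore R N (scaleFrom k a y) i = spanBefore R N y i :=
  Groth.Agent.H87.CDLScale.spanBefore_scaleFrom_of_le y k a hi

/-- (P2b) -/
theorem span_scaleFrom (y : Fin l → N) (k : ℕ) (a : R) :
    Submodule.span R (Set.range (scaleFrom k a y)) =
      spanBefore R N y k ⊔ (Submodule.span R (Set.range y)).map (LinearMap.lsmul R N a) :=
  Groth.Agent.H87.CDLScale.span_scaleFrom y k a

/-- (P2c) -/
theorem GoodR.scaleFrom {y : Fin l → N} (hy : GoodR q y) (k : ℕ) (a : R) (ha : a ∉ q) :
    GoodR q (scaleFrom k a y) :=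
  Groth.Agent.H87.CDLScale.goodR_scaleFrom hy k a ha

/-- (P2d) -/
theorem idx_scaleFrom {y : Fin l → N} (hy : GoodR q y) (k : ℕ) (hk : k ≤ l) (a : R) (ha : a ∉ q) :
    idx (Submodule.span R (Set.range y)) (Submodule.span R (Set.range (scaleFrom k a y))) =
      (l - k) • Module.length R (R ⧸ (q ⊔ Ideal.span {a})) :=
  Groth.Agent.H87.CDLScale.idx_scaleFrom hy k hk a ha

/-- (P3a) -/
theorem GoodR.swap {y : Fin l → N} (hy : GoodR q y) (a b : Fin l) (hab : (b : ℕ) + 1 = a)
    (h : ∀ r ∈ q, r • y a ∈ spanBefore R N y b) : GoodR q (y ∘ Equiv.swap a b) :=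
  Groth.Agent.H87.CDLSwap.goodR_swap hy a b hab h

/-- (P3b) -/
theorem span_swap (y : Fin l → N) (a b : Fin l) :
    Submodule.span R (Set.range (y ∘ Equiv.swap a b)) = Submodule.span R (Set.range y) :=
  Groth.Agent.H87.CDLSwap.span_swap y a b

/-- (P3c) -/
theorem GoodR.update {y : Fin l → N} (hy : GoodR q y) (k : Fin l) (n : N)
    (hn : n ∈ spanBefore R N y k) : GoodR q (Function.update y k (y k + n)) :=
  Groth.Agent.H87.CDLSwap.goodR_update hy k n hn

/-- (P3d) -/
theorem span_update (y : Fin l → N) (k : Fin l) (n : N) (hn : n ∈ spanBefore R N y k) :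
    Submodule.span R (Set.range (Function.update y k (y k + n))) =
      Submodule.span R (Set.range y) :=
  Groth.Agent.H87.CDLSwap.span_update y k n hn

end RLevel

/-! ## (P4) index and a linear map -/
section IdxMap
variable {A : Type*} [CommRing A] {V W : Type*} [AddCommGroup V] [Module A V] [AddCommGroup W]
  [Module A W]

theorem idx_map_ker (π : V →ₗ[A] W) (P P' : Submodule A V) (h : P' ≤ P) :
    idx P P' = idx (P.map π) (P'.map π) + idx (P ⊓ LinearMap.ker π) (P' ⊓ LinearMap.ker π) :=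
  Groth.Agent.H75.CDLP4.idx_map_ker π P P' h

theorem idx_map_injective (ψ : V →ₗ[A] W) (hψ : Function.Injective ψ) (L P : Submodule A V) :
    idx (L.map ψ) (P.map ψ) = idx L P :=
  Groth.Agent.H75.CDLP4.idx_map_injective ψ hψ L P

theorem idx_top (P : Submodule A V) : idx ⊤ P = Module.length A (V ⧸ P) :=
  Groth.Agent.H75.CDLP4.idx_top P

end IdxMap

/-! ## (P5) ordFrac -/
section Ord
variable {R : Type u} [CommRing R] [IsNoetherianRing R] (q : Ideal R) [q.IsPrime]
  (hq : ringKrullDim (R ⧸ q) = 1)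
include hq

theorem ordFrac_mul (f g : q.ResidueField) (hf : f ≠ 0) (hg : g ≠ 0) :
    CycAlg.ordFrac (R ⧸ q) q.ResidueField (f * g) =
      CycAlg.ordFrac (R ⧸ q) q.ResidueField f + CycAlg.ordFrac (R ⧸ q) q.ResidueField g :=
  Groth.Agent.H71.CDLP5.ordFrac_mul q hq f g hf hg

theorem ordFrac_neg_one : CycAlg.ordFrac (R ⧸ q) q.ResidueField (-1) = 0 :=
  Groth.Agent.H71.CDLP5.ordFrac_neg_one q hq

theorem ordFrac_one : CycAlg.ordFrac (R ⧸ q) q.ResidueField 1 = 0 :=
  Groth.Agent.H71.CDLP5.ordFrac_one q hq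

theorem length_quot_eq_ordFrac (a : R) (ha : a ∉ q) :
    ∃ c : ℕ, Module.length R (R ⧸ (q ⊔ Ideal.span {a})) = c ∧
      (c : ℤ) = CycAlg.ordFrac (R ⧸ q) q.ResidueField (algebraMap R q.ResidueField a) :=
  Groth.Agent.H71.CDLP5.length_quot_eq_ordFrac q hq a ha

end Ord

/-! ## (P6) symbols and scaling -/
section SymScale
variable {S : Type u} [CommRing S] [IsLocalRing S] {V : Type v} [AddCommGroup V] [Module S V]
  {l : ℕ}

theorem isAdmissible_scaleFrom (e : Adm S V l) (k : ℕ) (c : Sˣ) :
    IsAdmissible S V (scaleFrom k (c : S) e.1) :=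
  Groth.Agent.H55.CDLSym.isAdmissible_scaleFrom e k c

theorem cls_scaleFrom (e : Adm S V l) (k : ℕ) (hk : k ≤ l) (c : Sˣ)
    (h' : IsAdmissible S V (scaleFrom k (c : S) e.1)) :
    cls ⟨scaleFrom k (c : S) e.1, h'⟩ = (residue S (c : S)) ^ (l - k) • cls e :=
  Groth.Agent.H55.CDLSym.cls_scaleFrom e k hk c h'

end SymScale

/-! ## (P8) symbols and the quotient by the first entry -/
section SymQuot
variable {S : Type u} [CommRing S] [IsLocalRing S] {V : Type u} [AddCommGroup V] [Module S V]
  {l : ℕ}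

theorem cls_quotT (hlen : Module.length S V = ((l + 1 : ℕ) : ℕ∞)) (x y : Adm S V (l + 1))
    (c : Sˣ) (hxc : x.1 0 = (c : S) • y.1 0) (hy0 : y.1 0 ∉ spanBefore S V y.1 0)
    (xb yb : Adm S (V ⧸ Submodule.span S {y.1 0}) l)
    (hxb : xb.1 = quotT x.1 (Submodule.span S {y.1 0}))
    (hyb : yb.1 = quotT y.1 (Submodule.span S {y.1 0}))
    (f : ResidueField S) (hf : cls x = f • cls y) :
    residue S (c : S) • cls xb = f • cls yb :=
  Groth.Agent.H55.CDLSym.cls_quotT hlen x y c hxc hy0 xb yb hxb hyb f hf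

end SymQuot

/-! ## (P7) lattices and the quotient by the first entry -/
section LatQuot
variable {R : Type u} [CommRing R] [IsLocalRing R] (q : Ideal R) [q.IsPrime]
  {V : Type u} [AddCommGroup V] [Module R V] [Module (Localization.AtPrime q) V]
  [IsScalarTower R (Localization.AtPrime q) V] {l : ℕ}

theorem GoodR.quotT {z : Fin (l + 1) → V} (hz : GoodR q z)
    (K : Submodule (Localization.AtPrime q) V)
    (hK : K = Submodule.span (Localization.AtPrime q) {z 0}) :
    GoodR q (quotT z K) :=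
  Groth.Agent.H75.CDLP7.goodR_quotT q hz K hK

theorem idx_quotT (x y : Fin (l + 1) → V) (hx : GoodR q x) (hy : GoodR q y)
    (hxy : Submodule.span R (Set.range x) ≤ Submodule.span R (Set.range y))
    (a : R) (ha : a ∉ q) (hxa : x 0 = a • y 0) :
    idx (Submodule.span R (Set.range y)) (Submodule.span R (Set.range x)) =
      idx (Submodule.span R (Set.range (quotT y
          (Submodule.span (Localization.AtPrime q) {y 0}))))
        (Submodule.span R (Set.range (quotT x
          (Submodule.span (Localization.AtPrime q) {y 0})))) +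
      Module.length R (R ⧸ (q ⊔ Ideal.span {a})) :=
  Groth.Agent.H75.CDLP7.idx_quotT q x y hx hy hxy a ha hxa

end LatQuot

/-! ## (P10) localisation-level basics -/
section LocBasics
variable {R : Type u} [CommRing R] [IsLocalRing R] (q : Ideal R) [q.IsPrime]
  {V : Type u} [AddCommGroup V] [Module R V] [Module (Localization.AtPrime q) V]
  [IsScalarTower R (Localization.AtPrime q) V] {l : ℕ}

theorem exists_smul_mem_span (T : Set V) (v : V)
    (hv : v ∈ Submodule.span (Localization.AtPrime q) T) :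
    ∃ s : R, s ∉ q ∧ s • v ∈ Submodule.span R T :=
  Groth.Agent.H71.CDLP10.exists_smul_mem_span q T v hv

theorem isAdmissible_of_goodR {y : Fin l → V} (hy : GoodR q y) :
    IsAdmissible (Localization.AtPrime q) V y :=
  Groth.Agent.H71.CDLP10.isAdmissible_of_goodR q hy

theorem not_mem_spanBefore_of_goodR {y : Fin l → V} (hy : GoodR q y) (i : Fin l) :
    y i ∉ spanBefore (Localization.AtPrime q) V y i :=
  Groth.Agent.H71.CDLP10.not_mem_spanBefore_of_goodR q hy i

end LocBasics

end Groth.Agent.H58.CDL
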