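import Groth.Agent.H58.CDL.Glue

/-!
Main induction for S1853, inside an `R_q`-module `V` of finite length.
-/

set_option autoImplicit false
set_option linter.unusedSectionVars false
universe u v

namespace Groth.Agent.H58.CDL

open CycDet IsLocalRing Groth.Agent.H46.CD Groth.Agent.H46.LatDist

section Small

theorem cls_congr {S : Type u} [CommRing S] [IsLocalRing S] {V : Type v} [AddCommGroup V]
    [Module S V] {l : ℕ} (e e' : Adm S V l) (h : e.1 = e'.1) : cls e = cls e' := by
  rw [Subtype.ext h]

theorem idx_self {A : Type*} [CommRing A] {V : Type*} [AddCommGroup V] [Module A V]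
    (L : Submodule A V) : idx L L = 0 := by
  unfold idx
  rw [Module.length_eq_zero_iff]
  refine ⟨fun a b => ?_⟩
  obtain ⟨a, rfl⟩ := Submodule.Quotient.mk_surjective _ a
  obtain ⟨b, rfl⟩ := Submodule.Quotient.mk_surjective _ b
  rw [Submodule.Quotient.eq]
  show ((a - b : L) : V) ∈ L
  exact (a - b).2

theorem idx_congr_left {A : Type*} [CommRing A] {V : Type*} [AddCommGroup V] [Module A V]
    {L L' P : Submodule A V} (h : L = L') : idx L P = idx L' P := by rw [h]

end Small

section MainW

variable {R : Type u} [CommRing R] [IsLocalRing R] [IsNoetherianRing R] (q : Ideal R) [q.IsPrime]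

/-- The main statement at length `l`. -/
def MainStmt (l : ℕ) : Prop :=
  ∀ (V : Type u) [AddCommGroup V] [Module R V] [Module (Localization.AtPrime q) V]
    [IsScalarTower R (Localization.AtPrime q) V],
    Module.length (Localization.AtPrime q) V = (l : ℕ∞) →
    ∀ (x y : Fin l → V), GoodR q x → GoodR q y →
      Submodule.span R (Set.range x) ≤ Submodule.span R (Set.range y) →
      ∀ (hax : IsAdmissible (Localization.AtPrime q) V x)
        (hay : IsAdmissible (Localization.AtPrime q) V y)
        (f : q.ResidueField), cls ⟨x, hax⟩ = f • cls ⟨y, hay⟩ →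
        ∃ n : ℕ, idx (Submodule.span R (Set.range y)) (Submodule.span R (Set.range x)) = n ∧
          (n : ℤ) = CycAlg.ordFrac (R ⧸ q) q.ResidueField f

variable {V : Type u} [AddCommGroup V] [Module R V] [Module (Localization.AtPrime q) V]
  [IsScalarTower R (Localization.AtPrime q) V]

theorem cls_ne_zero_of_goodR {l : ℕ}
    (hlen : Module.length (Localization.AtPrime q) V = (l : ℕ∞)) {y : Fin l → V}
    (hy : GoodR q y) (hay : IsAdmissible (Localization.AtPrime q) V y) :
    cls (⟨y, hay⟩ : Adm (Localization.AtPrime q) V l) ≠ 0 := by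
  obtain ⟨lam, hlam⟩ := exists_functional_ne_zero (R := Localization.AtPrime q) l V hlen
  have hfl : IsFiniteLength (Localization.AtPrime q) V :=
    Module.length_ne_top_iff.mp (by rw [hlen]; exact ENat.coe_ne_top _)
  obtain ⟨hN, hA⟩ := isFiniteLength_iff_isNoetherian_isArtinian.mp hfl
  have hgood : Good (R := Localization.AtPrime q) y := fun i => not_mem_spanBefore_of_goodR q hy i
  have htop := spanBefore_eq_top_of_good (R := Localization.AtPrime q) hlen y hgood
  rw [spanBefore_eq_range] at htop
  intro h0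
  apply hlam ⟨y, hay⟩ htop
  rw [h0, map_zero]

theorem mem_spanBefore_S {l : ℕ} (e : Fin l → V) (i : ℕ) (n : V)
    (hn : n ∈ spanBefore R V e i) : n ∈ spanBefore (Localization.AtPrime q) V e i := by
  unfold spanBefore at hn ⊢
  exact Submodule.span_le_restrictScalars R (Localization.AtPrime q) _ hn

theorem scaleFrom_eq {l : ℕ} (k : ℕ) (a : R) (y : Fin l → V) :
    scaleFrom k a y = scaleFrom k (algebraMap R (Localization.AtPrime q) a) y := by
  funext j
  unfold scaleFrom
  split_ifs
  · rw [algebraMap_smul]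
  · rfl

theorem residue_algebraMap (a : R) :
    algebraMap R q.ResidueField a =
      residue (Localization.AtPrime q) (algebraMap R (Localization.AtPrime q) a) := by
  rw [IsScalarTower.algebraMap_apply R (Localization.AtPrime q) q.ResidueField a]
  rfl

variable (hq : ringKrullDim (R ⧸ q) = 1)
include hq

theorem ordFrac_pow (g : q.ResidueField) (hg : g ≠ 0) (i : ℕ) :
    CycAlg.ordFrac (R ⧸ q) q.ResidueField (g ^ i) =
      (i : ℤ) * CycAlg.ordFrac (R ⧸ q) q.ResidueField g := by
  induction i with
  | zero => rw [pow_zero, ordFrac_one q hq]; simp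
  | succ i ih =>
    rw [pow_succ, ordFrac_mul q hq _ _ (pow_ne_zero _ hg) hg, ih]
    push_cast
    ring


theorem main_zero : MainStmt q 0 := by
  intro V _ _ _ _ hlen x y hx hy hxy hax hay f hf
  have hxy' : x = y := funext (fun i => i.elim0)
  subst hxy'
  have hne := cls_ne_zero_of_goodR q hlen hy hay
  have hf1 : f = 1 := by
    have h2 : (1 - f) • cls (⟨x, hay⟩ : Adm (Localization.AtPrime q) V 0) = 0 := by
      rw [sub_smul, one_smul, sub_eq_zero]
      exact hf
    rcases smul_eq_zero.1 h2 with h | h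
    · exact (sub_eq_zero.1 h).symm
    · exact absurd h hne
  refine ⟨0, ?_, ?_⟩
  · rw [idx_self]; rfl
  · rw [hf1, ordFrac_one q hq]; rfl

omit hq in
theorem length_quot_span {S : Type u} [CommRing S] [IsLocalRing S] {V : Type u} [AddCommGroup V]
    [Module S V] {l : ℕ} (hlen : Module.length S V = ((l + 1 : ℕ) : ℕ∞)) (v : V) (hv : v ≠ 0)
    (hm : ∀ r ∈ maximalIdeal S, r • v = 0) :
    Module.length S (V ⧸ Submodule.span S {v}) = (l : ℕ∞) := by
  have hK : Module.length S (Submodule.span S {v}) = 1 := by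
    rw [Module.length_eq_one_iff, isSimpleModule_iff_toSpanSingleton_surjective]
    refine ⟨⟨⟨⟨v, Submodule.mem_span_singleton_self v⟩, 0,
      fun h => hv (congrArg Subtype.val h)⟩⟩, ?_⟩
    intro w hw w'
    obtain ⟨σ, hσ⟩ := Submodule.mem_span_singleton.1 w.2
    obtain ⟨τ, hτ⟩ := Submodule.mem_span_singleton.1 w'.2
    have hσu : IsUnit σ := by
      by_contra hnu
      apply hw
      apply Subtype.ext
      rw [← hσ, hm σ ((IsLocalRing.mem_maximalIdeal σ).2 hnu)]
      rfl
    obtain ⟨u, rfl⟩ := hσu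
    refine ⟨τ * ((u⁻¹ : Sˣ) : S), ?_⟩
    apply Subtype.ext
    rw [LinearMap.toSpanSingleton_apply, Submodule.coe_smul, ← hσ, ← hτ, smul_smul, mul_assoc,
      Units.inv_mul, mul_one]
  have hadd := Module.length_eq_add_of_exact (Submodule.span S {v}).subtype
    (Submodule.span S {v}).mkQ (Submodule.injective_subtype _) (Submodule.mkQ_surjective _)
    (LinearMap.exact_subtype_mkQ _)
  rw [hlen, hK] at hadd
  have hne : Module.length S (V ⧸ Submodule.span S {v}) ≠ ⊤ := by
    intro htop
    rw [htop, add_top] at hadd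
    exact ENat.coe_ne_top _ hadd
  obtain ⟨m, hm'⟩ := ENat.ne_top_iff_exists.1 hne
  rw [← hm'] at hadd ⊢
  have : l + 1 = 1 + m := by exact_mod_cast hadd
  have hml : m = l := by omega
  rw [hml]

theorem quot_step (l : ℕ) (IH : MainStmt q l)
    (hlen : Module.length (Localization.AtPrime q) V = ((l + 1 : ℕ) : ℕ∞))
    (x y : Fin (l + 1) → V) (hx : GoodR q x) (hy : GoodR q y)
    (hxy : Submodule.span R (Set.range x) ≤ Submodule.span R (Set.range y))
    (hax : IsAdmissible (Localization.AtPrime q) V x)
    (hay : IsAdmissible (Localization.AtPrime q) V y)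
    (f : q.ResidueField) (hf : cls ⟨x, hax⟩ = f • cls ⟨y, hay⟩)
    (h0 : x 0 ∈ spanBefore R V y 1) :
    ∃ n : ℕ, idx (Submodule.span R (Set.range y)) (Submodule.span R (Set.range x)) = n ∧
      (n : ℤ) = CycAlg.ordFrac (R ⧸ q) q.ResidueField f := by
  have hsb1 : spanBefore R V y 1 = Submodule.span R {y 0} := by
    have h := spanBefore_succ (R := R) y (0 : Fin (l + 1))
    change spanBefore R V y (0 + 1) = spanBefore R V y 0 ⊔ Submodule.span R {y 0} at h
    rw [zero_add, spanBefore_zero, bot_sup_eq] at h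
    exact h
  rw [hsb1] at h0
  obtain ⟨a, ha0⟩ := Submodule.mem_span_singleton.1 h0
  have hx0 : ∀ r, r • x 0 = 0 ↔ r ∈ q := by
    intro r
    have h := hx 0 r
    change r • x 0 ∈ spanBefore R V x 0 ↔ r ∈ q at h
    rwa [spanBefore_zero, Submodule.mem_bot] at h
  have hy0 : ∀ r, r • y 0 = 0 ↔ r ∈ q := by
    intro r
    have h := hy 0 r
    change r • y 0 ∈ spanBefore R V y 0 ↔ r ∈ q at h
    rwa [spanBefore_zero, Submodule.mem_bot] at h
  have hq1 : (1 : R) ∉ q := fun h => (Ideal.IsPrime.ne_top ‹q.IsPrime›) ((Ideal.eq_top_iff_one q).2 h)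
  have ha : a ∉ q := by
    intro haq
    have h1 : a • y 0 = 0 := (hy0 a).2 haq
    have h2 : (1 : R) • x 0 = 0 := by rw [one_smul, ← ha0, h1]
    exact hq1 ((hx0 1).1 h2)
  have hcu : IsUnit (algebraMap R (Localization.AtPrime q) a) :=
    IsLocalization.map_units (Localization.AtPrime q) (⟨a, ha⟩ : q.primeCompl)
  obtain ⟨c, hc⟩ := hcu
  have hxc : x 0 = (c : Localization.AtPrime q) • y 0 := by rw [hc, algebraMap_smul, ha0]
  have hy0ne : y 0 ≠ 0 := by
    intro h
    exact hq1 ((hy0 1).1 (by rw [h, smul_zero]))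
  have hmy : ∀ r ∈ maximalIdeal (Localization.AtPrime q), r • y 0 = 0 := by
    intro r hr
    have h := hay 0 r hr
    change r • y 0 ∈ spanBefore (Localization.AtPrime q) V y 0 at h
    rwa [spanBefore_zero, Submodule.mem_bot] at h
  obtain ⟨K, hK⟩ : ∃ K : Submodule (Localization.AtPrime q) V,
      K = Submodule.span (Localization.AtPrime q) {y 0} := ⟨_, rfl⟩
  have hlen' : Module.length (Localization.AtPrime q) (V ⧸ K) = (l : ℕ∞) := by
    rw [hK]; exact length_quot_span hlen (y 0) hy0ne hmy
  have hyb : GoodR q (quotT y K) := GoodR.quotT q hy K hK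
  have hKx : K = Submodule.span (Localization.AtPrime q) {x 0} := by
    rw [hxc, hK]
    exact (Submodule.span_singleton_smul_eq c.isUnit (y 0)).symm
  have hxb : GoodR q (quotT x K) := GoodR.quotT q hx K hKx
  have haxb := isAdmissible_of_goodR q hxb
  have hayb := isAdmissible_of_goodR q hyb
  have hy0' : y 0 ∉ spanBefore (Localization.AtPrime q) V y 0 := by
    rw [spanBefore_zero, Submodule.mem_bot]; exact hy0ne
  have hrc : residue (Localization.AtPrime q) (c : Localization.AtPrime q) ≠ 0 := by
    intro h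
    have := (IsLocalRing.residue_eq_zero_iff _).1 h
    exact (IsLocalRing.mem_maximalIdeal _).1 this c.isUnit
  subst hK
  have hcls := cls_quotT hlen ⟨x, hax⟩ ⟨y, hay⟩ c hxc hy0' ⟨quotT x _, haxb⟩ ⟨quotT y _, hayb⟩
    rfl rfl f hf
  obtain ⟨fb, hfb⟩ : ∃ fb : q.ResidueField,
      fb = (residue (Localization.AtPrime q) (c : Localization.AtPrime q))⁻¹ * f := ⟨_, rfl⟩
  have hcls' : cls (⟨quotT x _, haxb⟩ : Adm (Localization.AtPrime q)
      (V ⧸ Submodule.span (Localization.AtPrime q) {y 0}) l) = fb • cls ⟨quotT y _, hayb⟩ := by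
    rw [hfb, mul_smul, ← hcls, smul_smul, inv_mul_cancel₀ hrc, one_smul]
  have hle : Submodule.span R (Set.range (quotT x (Submodule.span (Localization.AtPrime q) {y 0})))
      ≤ Submodule.span R (Set.range (quotT y (Submodule.span (Localization.AtPrime q) {y 0}))) := by
    rw [Submodule.span_le]
    rintro _ ⟨j, rfl⟩
    have hxj : x j.succ ∈ Submodule.span R (Set.range y) := hxy (Submodule.subset_span ⟨_, rfl⟩)
    have key : ∀ v ∈ Submodule.span R (Set.range y),
        ((Submodule.span (Localization.AtPrime q) {y 0}).mkQ v) ∈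
          Submodule.span R (Set.range (quotT y (Submodule.span (Localization.AtPrime q) {y 0}))) := by
      intro v hv
      induction hv using Submodule.span_induction with
      | mem v hv =>
        obtain ⟨i, rfl⟩ := hv
        refine Fin.cases ?_ (fun j' => ?_) i
        · have : (Submodule.span (Localization.AtPrime q) {y 0}).mkQ (y 0) = 0 := by
            rw [Submodule.mkQ_apply, Submodule.Quotient.mk_eq_zero]
            exact Submodule.mem_span_singleton_self _
          rw [this]; exact Submodule.zero_mem _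
        · exact Submodule.subset_span ⟨j', rfl⟩
      | zero => rw [map_zero]; exact Submodule.zero_mem _
      | add u w _ _ hu hw => rw [map_add]; exact Submodule.add_mem _ hu hw
      | smul r u _ hu =>
        have : (Submodule.span (Localization.AtPrime q) {y 0}).mkQ (r • u) =
            r • (Submodule.span (Localization.AtPrime q) {y 0}).mkQ u := by
          rw [← algebraMap_smul (Localization.AtPrime q) r u, map_smul, algebraMap_smul]
        rw [this]; exact Submodule.smul_mem _ _ hu
    exact key _ hxj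
  obtain ⟨n', hn', hn'z⟩ := IH (V ⧸ Submodule.span (Localization.AtPrime q) {y 0}) hlen'
    (quotT x _) (quotT y _) hxb hyb hle haxb hayb fb hcls'
  obtain ⟨c₀, hc₀, hc₀z⟩ := length_quot_eq_ordFrac q hq a ha
  have hfne : f ≠ 0 := by
    intro h0
    rw [h0, zero_smul] at hf
    exact cls_ne_zero_of_goodR q hlen hx hax hf
  refine ⟨n' + c₀, ?_, ?_⟩
  · rw [idx_quotT q x y hx hy hxy a ha ha0.symm, hn', hc₀]
    push_cast
    rfl
  · have hfbne : fb ≠ 0 := by rw [hfb]; exact mul_ne_zero (inv_ne_zero hrc) hfne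
    have hane : algebraMap R q.ResidueField a ≠ 0 := by
      rw [residue_algebraMap, ← hc]; exact hrc
    have hff : f = fb * algebraMap R q.ResidueField a := by
      rw [residue_algebraMap, ← hc, hfb, mul_comm _ f, mul_assoc, inv_mul_cancel₀ hrc, mul_one]
    rw [hff, ordFrac_mul q hq _ _ hfbne hane, ← hn'z, ← hc₀z]
    push_cast
    rfl


theorem inner (l : ℕ) (IH : MainStmt q l) : ∀ (i : ℕ) (V : Type u) [AddCommGroup V] [Module R V]
    [Module (Localization.AtPrime q) V] [IsScalarTower R (Localization.AtPrime q) V],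
    Module.length (Localization.AtPrime q) V = ((l + 1 : ℕ) : ℕ∞) →
    ∀ (x y : Fin (l + 1) → V), GoodR q x → GoodR q y →
      Submodule.span R (Set.range x) ≤ Submodule.span R (Set.range y) →
      ∀ (hax : IsAdmissible (Localization.AtPrime q) V x)
        (hay : IsAdmissible (Localization.AtPrime q) V y)
        (f : q.ResidueField), cls ⟨x, hax⟩ = f • cls ⟨y, hay⟩ →
        x 0 ∈ spanBefore R V y (i + 1) →
        ∃ n : ℕ, idx (Submodule.span R (Set.range y)) (Submodule.span R (Set.range x)) = n ∧
          (n : ℤ) = CycAlg.ordFrac (R ⧸ q) q.ResidueField f := by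
  intro i
  induction i with
  | zero =>
    intro V _ _ _ _ hlen x y hx hy hxy hax hay f hf h0
    exact quot_step q hq l IH hlen x y hx hy hxy hax hay f hf h0
  | succ i ih =>
    intro V _ _ _ _ hlen x y hx hy hxy hax hay f hf hmem
    by_cases hil : i + 1 < l + 1
    swap
    · apply ih V hlen x y hx hy hxy hax hay f hf
      have hle : spanBefore R V y (i + 1 + 1) ≤ spanBefore R V y (i + 1) :=
        spanBefore_le y (fun j _ => mem_spanBefore y j (by have := j.2; omega))
      exact hle hmem
    by_cases h1 : x 0 ∈ spanBefore R V y (i + 1)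
    · exact ih V hlen x y hx hy hxy hax hay f hf h1
    obtain ⟨k, hk⟩ : ∃ k : Fin (l + 1), (k : ℕ) = i + 1 := ⟨⟨i + 1, hil⟩, rfl⟩
    obtain ⟨k', hk'⟩ : ∃ k' : Fin (l + 1), (k' : ℕ) = i := ⟨⟨i, by omega⟩, rfl⟩
    have hkk' : (k' : ℕ) + 1 = (k : ℕ) := by rw [hk, hk']
    have hil' : i ≤ l := by omega
    have hsucc := spanBefore_succ (R := R) y k
    rw [hk] at hsucc
    rw [hsucc] at hmem
    obtain ⟨n, hn, z, hz, hnz⟩ := Submodule.mem_sup.1 hmem
    obtain ⟨a, rfl⟩ := Submodule.mem_span_singleton.1 hz
    have ha : a ∉ q := by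
      intro haq
      apply h1
      rw [← hnz]
      have := (hy k a).2 haq
      rw [hk] at this
      exact Submodule.add_mem _ hn this
    have hx0 : ∀ r ∈ q, r • x 0 = 0 := by
      intro r hr
      have h := (hx 0 r).2 hr
      change r • x 0 ∈ spanBefore R V x 0 at h
      rwa [spanBefore_zero, Submodule.mem_bot] at h
    -- the modified tuples
    obtain ⟨x1, hx1def⟩ : ∃ x1 : Fin (l + 1) → V, x1 = scaleFrom 1 a x := ⟨_, rfl⟩
    obtain ⟨y1, hy1def⟩ : ∃ y1 : Fin (l + 1) → V, y1 = scaleFrom (i + 1) a y := ⟨_, rfl⟩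
    have hy1k : y1 k = a • y k := by
      rw [hy1def]; unfold scaleFrom; rw [if_pos (le_of_eq hk.symm)]
    have hn1 : n ∈ spanBefore R V y1 k := by
      rw [hy1def, hk, spanBefore_scaleFrom_of_le y (i + 1) a (le_refl _)]; exact hn
    obtain ⟨y2, hy2def⟩ : ∃ y2 : Fin (l + 1) → V, y2 = Function.update y1 k (y1 k + n) :=
      ⟨_, rfl⟩
    have hy2k : y2 k = x 0 := by
      rw [hy2def, Function.update_self, hy1k, add_comm]; exact hnz
    obtain ⟨y3, hy3def⟩ : ∃ y3 : Fin (l + 1) → V, y3 = y2 ∘ Equiv.swap k k' := ⟨_, rfl⟩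
    have gx1 : GoodR q x1 := by rw [hx1def]; exact GoodR.scaleFrom hx 1 a ha
    have gy1 : GoodR q y1 := by rw [hy1def]; exact GoodR.scaleFrom hy (i + 1) a ha
    have gy2 : GoodR q y2 := by rw [hy2def]; exact GoodR.update gy1 k n hn1
    have hswap : ∀ r ∈ q, r • y2 k ∈ spanBefore R V y2 k' := by
      intro r hr; rw [hy2k, hx0 r hr]; exact Submodule.zero_mem _
    have gy3 : GoodR q y3 := by rw [hy3def]; exact GoodR.swap gy2 k k' hkk' hswap
    -- spans
    have sy3 : Submodule.span R (Set.range y3) = Submodule.span R (Set.range y1) := by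
      rw [hy3def, span_swap, hy2def, span_update y1 k n hn1]
    have sy1 : Submodule.span R (Set.range y1) = spanBefore R V y (i + 1) ⊔
        (Submodule.span R (Set.range y)).map (LinearMap.lsmul R V a) := by
      rw [hy1def]; exact span_scaleFrom y (i + 1) a
    have sx1 : Submodule.span R (Set.range x1) = spanBefore R V x 1 ⊔
        (Submodule.span R (Set.range x)).map (LinearMap.lsmul R V a) := by
      rw [hx1def]; exact span_scaleFrom x 1 a
    have hy1y : Submodule.span R (Set.range y1) ≤ Submodule.span R (Set.range y) := by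
      rw [sy1]
      apply sup_le
      · rw [← spanBefore_eq_range]; exact spanBefore_mono y (by omega)
      · rintro _ ⟨v, hv, rfl⟩; exact Submodule.smul_mem _ a hv
    have hx1x : Submodule.span R (Set.range x1) ≤ Submodule.span R (Set.range x) := by
      rw [sx1]
      apply sup_le
      · rw [← spanBefore_eq_range]; exact spanBefore_mono x (by omega)
      · rintro _ ⟨v, hv, rfl⟩; exact Submodule.smul_mem _ a hv
    have hx1y1 : Submodule.span R (Set.range x1) ≤ Submodule.span R (Set.range y1) := by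
      rw [sx1, sy1]
      apply sup_le
      · apply spanBefore_le
        intro j hj
        have hj0 : j = 0 := Fin.ext (by simpa using hj)
        rw [hj0, ← hnz]
        exact Submodule.add_mem _ (Submodule.mem_sup_left hn)
          (Submodule.mem_sup_right ⟨y k, Submodule.subset_span ⟨k, rfl⟩, rfl⟩)
      · exact le_sup_of_le_right (Submodule.map_mono hxy)
    -- admissibility
    have ax1 := isAdmissible_of_goodR q gx1
    have ay1 := isAdmissible_of_goodR q gy1
    have ay2 := isAdmissible_of_goodR q gy2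
    have ay3 := isAdmissible_of_goodR q gy3
    -- symbols
    have hcu : IsUnit (algebraMap R (Localization.AtPrime q) a) :=
      IsLocalization.map_units (Localization.AtPrime q) (⟨a, ha⟩ : q.primeCompl)
    obtain ⟨c, hc⟩ := hcu
    obtain ⟨g, hg⟩ : ∃ g : q.ResidueField,
        g = residue (Localization.AtPrime q) (c : Localization.AtPrime q) := ⟨_, rfl⟩
    have hga : g = algebraMap R q.ResidueField a := by rw [residue_algebraMap, hg, hc]
    have hgne : g ≠ 0 := by
      rw [hg]
      intro h
      have := (IsLocalRing.residue_eq_zero_iff _).1 h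
      exact (IsLocalRing.mem_maximalIdeal _).1 this c.isUnit
    have cx1 : cls ⟨x1, ax1⟩ = g ^ (l + 1 - 1) • cls ⟨x, hax⟩ := by
      have e1 : x1 = scaleFrom 1 (c : Localization.AtPrime q) x := by
        rw [hx1def, scaleFrom_eq q, hc]
      have adm1 : IsAdmissible (Localization.AtPrime q) V
          (scaleFrom 1 (c : Localization.AtPrime q) x) := e1 ▸ ax1
      rw [cls_congr ⟨x1, ax1⟩ ⟨scaleFrom 1 (c : Localization.AtPrime q) x, adm1⟩ e1, hg]
      exact cls_scaleFrom ⟨x, hax⟩ 1 (by omega) c adm1
    have cy1 : cls ⟨y1, ay1⟩ = g ^ (l + 1 - (i + 1)) • cls ⟨y, hay⟩ := by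
      have e1 : y1 = scaleFrom (i + 1) (c : Localization.AtPrime q) y := by
        rw [hy1def, scaleFrom_eq q, hc]
      have adm1 : IsAdmissible (Localization.AtPrime q) V
          (scaleFrom (i + 1) (c : Localization.AtPrime q) y) := e1 ▸ ay1
      rw [cls_congr ⟨y1, ay1⟩ ⟨scaleFrom (i + 1) (c : Localization.AtPrime q) y, adm1⟩ e1, hg]
      exact cls_scaleFrom ⟨y, hay⟩ (i + 1) (by omega) c adm1
    have cy2 : cls ⟨y2, ay2⟩ = cls ⟨y1, ay1⟩ := by
      have h2 : y2 k - ((1 : (Localization.AtPrime q)ˣ) : Localization.AtPrime q) • y1 k ∈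
          spanBefore (Localization.AtPrime q) V y2 k := by
        rw [Units.val_one, one_smul, hy2def, Function.update_self, add_sub_cancel_left]
        have hsb : spanBefore (Localization.AtPrime q) V (Function.update y1 k (y1 k + n)) k =
            spanBefore (Localization.AtPrime q) V y1 k :=
          spanBefore_congr (fun j hj => Function.update_of_ne
            (fun h => by rw [h] at hj; omega) _ _)
        rw [hsb]; exact mem_spanBefore_S q y1 k n hn1
      have h3 := cls_eq_smul (R := Localization.AtPrime q) ⟨y2, ay2⟩ ⟨y1, ay1⟩ k 1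
        (fun j hj => by
          show y2 j = y1 j
          rw [hy2def]; exact Function.update_of_ne hj _ _) h2
      rw [h3, Units.val_one, map_one, one_smul]
    have cy3 : cls ⟨y2, ay2⟩ = - cls ⟨y3, ay3⟩ := by
      refine cls_eq_neg (R := Localization.AtPrime q) ⟨y2, ay2⟩ ⟨y3, ay3⟩ k k' hkk' ?_
        hy3def
      intro r hr
      show r • y2 k ∈ spanBefore (Localization.AtPrime q) V y2 k'
      rw [hy2k]
      have h := hax 0 r hr
      change r • x 0 ∈ spanBefore (Localization.AtPrime q) V x 0 at h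
      rw [spanBefore_zero, Submodule.mem_bot] at h
      rw [h]; exact Submodule.zero_mem _
    have hfne : f ≠ 0 := by
      intro h0
      rw [h0, zero_smul] at hf
      exact cls_ne_zero_of_goodR q hlen hx hax hf
    have hcls : cls ⟨x1, ax1⟩ = (-(g ^ i * f)) • cls ⟨y3, ay3⟩ := by
      have hy3' : cls ⟨y3, ay3⟩ = -(g ^ (l + 1 - (i + 1)) • cls ⟨y, hay⟩) := by
        rw [← cy1, ← cy2, cy3, neg_neg]
      rw [cx1, hf, hy3', smul_neg, neg_smul, neg_neg, smul_smul, smul_smul]
      congr 1
      have e1 : l + 1 - 1 = l := by omega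
      have e2 : l + 1 - (i + 1) = l - i := by omega
      rw [e1, e2]
      have e3 : g ^ l = g ^ i * g ^ (l - i) := by rw [← pow_add, Nat.add_sub_cancel' hil']
      rw [e3]; ring
    have hx10 : x1 0 ∈ spanBefore R V y3 (i + 1) := by
      have e1 : x1 0 = x 0 := by
        rw [hx1def]; unfold scaleFrom; rw [if_neg (by simp)]
      have e2 : y3 k' = x 0 := by
        rw [hy3def, Function.comp_apply, Equiv.swap_apply_right, hy2k]
      rw [e1, ← e2]
      exact mem_spanBefore y3 k' (by rw [hk']; exact Nat.lt_succ_self i)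
    obtain ⟨n', hn'1, hn'2⟩ := ih V hlen x1 y3 gx1 gy3 (by rw [sy3]; exact hx1y1) ax1 ay3
      _ hcls hx10
    -- index bookkeeping
    obtain ⟨c₀, hc₀, hc₀z⟩ := length_quot_eq_ordFrac q hq a ha
    have hsm : ∀ m : ℕ, m • (c₀ : ℕ∞) = ((m * c₀ : ℕ) : ℕ∞) := fun m => by
      rw [nsmul_eq_mul, Nat.cast_mul]
    have E1 := idx_scaleFrom hx 1 (by omega) a ha
    have E2 := idx_scaleFrom hy (i + 1) (by omega) a ha
    rw [← hx1def, hc₀, hsm] at E1
    rw [← hy1def, hc₀, hsm] at E2
    have A1 := idx_add hx1x hxy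
    have A2 := idx_add hx1y1 hy1y
    rw [sy3] at hn'1
    rw [A2, hn'1, E1, E2] at A1
    have hfin : idx (Submodule.span R (Set.range y)) (Submodule.span R (Set.range x)) ≠ ⊤ := by
      intro htop
      rw [htop, add_top] at A1
      exact ENat.coe_ne_top _ (by rw [← A1]; push_cast; rfl)
    obtain ⟨m, hm⟩ := ENat.ne_top_iff_exists.1 hfin
    rw [← hm] at A1
    have A1' : n' + (l + 1 - (i + 1)) * c₀ = (l + 1 - 1) * c₀ + m := by exact_mod_cast A1
    refine ⟨m, hm.symm, ?_⟩
    have hgi : g ^ i * f ≠ 0 := mul_ne_zero (pow_ne_zero _ hgne) hfne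
    have hord : CycAlg.ordFrac (R ⧸ q) q.ResidueField (-(g ^ i * f)) =
        (i : ℤ) * c₀ + CycAlg.ordFrac (R ⧸ q) q.ResidueField f := by
      have : -(g ^ i * f) = (-1) * (g ^ i * f) := by ring
      rw [this, ordFrac_mul q hq _ _ (by simp) hgi, ordFrac_neg_one q hq,
        ordFrac_mul q hq _ _ (pow_ne_zero _ hgne) hfne, ordFrac_pow q hq g hgne i, hga, ← hc₀z,
        zero_add]
    rw [hord] at hn'2
    have e1 : l + 1 - 1 = l := by omega
    have e2 : l + 1 - (i + 1) = l - i := by omega
    rw [e1, e2] at A1'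
    have A1z : (n' : ℤ) + ((l : ℤ) - i) * c₀ = (l : ℤ) * c₀ + m := by
      have := congrArg (Nat.cast : ℕ → ℤ) A1'
      push_cast [Nat.cast_sub hil'] at this
      exact this
    linarith

theorem main_all : ∀ l : ℕ, MainStmt q l := by
  intro l
  induction l with
  | zero => exact main_zero q hq
  | succ l IH =>
    intro V _ _ _ _ hlen x y hx hy hxy hax hay f hf
    have h0 : x 0 ∈ spanBefore R V y (l + 1) := by
      rw [spanBefore_eq_range]; exact hxy (Submodule.subset_span ⟨0, rfl⟩)
    exact inner q hq l IH l V hlen x y hx hy hxy hax hay f hf h0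

end MainW

end Groth.Agent.H58.CDL
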